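import Cfsg.Agent.H965.XZ.Walk

/-!
# The `p`-part of the order of a group of type `B_m` at a linear prime (helper886, for S4791 / S4927)

* `fac_gs` : `v_p([e k]) = v_p([e]) + v_p(k)`, `v_p([n]) = 0` if `e` does not divide `n`;
* `fac_prod` : the `p`-part of `∏_{i < m} [i+1] (1 + y^i z)`, `m = v + e w`.
-/

set_option autoImplicit false

namespace Cfsg.Agent.H886.XZ

open Cfsg.Agent.H965.XZ (gs)

section

variable {p y e : ℕ} [hp : Fact p.Prime]

theorem gs_ne_zero {n : ℕ} (hn : n ≠ 0) : gs y n ≠ 0 := by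
  obtain ⟨n, rfl⟩ := Nat.exists_eq_succ_of_ne_zero hn
  unfold gs
  rw [Finset.sum_range_succ']
  simp

theorem gs_mul (hy : 1 < y) (n : ℕ) : gs y n * (y - 1) = y ^ n - 1 := by
  have h1 : ((gs y n : ℕ) : ℤ) * ((y : ℤ) - 1) = (y : ℤ) ^ n - 1 := by
    unfold gs
    push_cast
    exact geom_sum_mul _ _
  have h2 : 1 ≤ y ^ n := Nat.one_le_pow _ _ (by omega)
  zify [h2, hy.le]
  exact h1

variable (he0 : 0 < e) (he : e = orderOf (y : ZMod p))

include he

theorem not_dvd_gs {n : ℕ} (hn : ¬ e ∣ n) : ¬ p ∣ gs y n := by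
  intro h
  apply hn
  rw [he]
  apply orderOf_dvd_of_pow_eq_one
  have h1 : ((gs y n : ℕ) : ZMod p) * ((y : ZMod p) - 1) = (y : ZMod p) ^ n - 1 := by
    unfold gs
    push_cast
    exact geom_sum_mul _ _
  rw [(ZMod.natCast_eq_zero_iff _ _).2 h, zero_mul] at h1
  exact (sub_eq_zero.1 h1.symm)

include he0

theorem not_dvd_y : ¬ p ∣ y := by
  intro h
  have h1 : (y : ZMod p) = 0 := (ZMod.natCast_eq_zero_iff _ _).2 h
  have h2 := pow_orderOf_eq_one (y : ZMod p)
  rw [← he, h1, zero_pow (by omega)] at h2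
  exact zero_ne_one h2

/-- **the valuation of `[e k]`** -/
theorem fac_gs (hp2 : p ≠ 2) (hy : 1 < y) {k : ℕ} (hk : k ≠ 0) :
    (gs y (e * k)).factorization p = (gs y e).factorization p + k.factorization p := by
  have hodd : Odd p := hp.out.odd_of_ne_two hp2
  have h1 := gs_mul hy (e * k)
  have h2 := gs_mul hy e
  have hye : 1 < y ^ e := Nat.one_lt_pow (by omega) hy
  have hd : p ∣ y ^ e - 1 := by
    rw [← ZMod.natCast_eq_zero_iff, Nat.cast_sub (by omega)]
    push_cast
    rw [he, pow_orderOf_eq_one, sub_self]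
  have h3 : padicValNat p ((y ^ e) ^ k - 1 ^ k) = padicValNat p (y ^ e - 1) + padicValNat p k :=
    padicValNat.pow_sub_pow hodd hye hd (fun h => not_dvd_y he0 he (hp.out.dvd_of_dvd_pow h)) hk
  rw [one_pow, ← pow_mul, ← h1, ← h2, padicValNat.mul (gs_ne_zero (by positivity)) (by omega),
    padicValNat.mul (gs_ne_zero (by omega)) (by omega)] at h3
  rw [Nat.factorization_def _ hp.out, Nat.factorization_def _ hp.out, Nat.factorization_def _ hp.out]
  omega

/-- the valuation of the product of a full period -/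
theorem sum_period (hp2 : p ≠ 2) (hy : 1 < y) (w : ℕ) :
    ∑ i ∈ Finset.range e, (gs y (e * w + i + 1)).factorization p =
      (gs y e).factorization p + (w + 1).factorization p := by
  obtain ⟨e', rfl⟩ := Nat.exists_eq_succ_of_ne_zero (show e ≠ 0 by omega)
  rw [Finset.sum_range_succ, Finset.sum_eq_zero, zero_add,
    show (e' + 1) * w + e' + 1 = (e' + 1) * (w + 1) by ring, fac_gs he0 he hp2 hy (by omega)]
  intro i hi
  apply Nat.factorization_eq_zero_of_not_dvd
  apply not_dvd_gs he
  intro h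
  have h1 : (e' + 1) ∣ i + 1 := by
    rw [add_assoc] at h
    exact (Nat.dvd_add_right (Dvd.intro _ rfl)).1 h
  have h2 := Nat.le_of_dvd (by omega) h1
  rw [Finset.mem_range] at hi
  omega

theorem sum_all (hp2 : p ≠ 2) (hy : 1 < y) {v : ℕ} (hv : v < e) (w : ℕ) :
    ∑ i ∈ Finset.range (v + e * w), (gs y (i + 1)).factorization p =
      w * (gs y e).factorization p + w.factorial.factorization p := by
  have h1 : ∀ w : ℕ, ∑ i ∈ Finset.range (e * w), (gs y (i + 1)).factorization p =
      w * (gs y e).factorization p + w.factorial.factorization p := by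
    intro w
    induction w with
    | zero => simp
    | succ w ih =>
      rw [Nat.mul_succ, Finset.sum_range_add, ih, sum_period he0 he hp2 hy, Nat.factorial_succ,
        Nat.factorization_mul (by omega) (Nat.factorial_ne_zero w), Finsupp.add_apply]
      ring
  rw [add_comm v, Finset.sum_range_add, h1, Finset.sum_eq_zero, add_zero]
  intro i hi
  apply Nat.factorization_eq_zero_of_not_dvd
  apply not_dvd_gs he
  intro h
  have h1 : e ∣ i + 1 := by
    rw [add_assoc] at h
    exact (Nat.dvd_add_right (Dvd.intro _ rfl)).1 h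
  have h2 := Nat.le_of_dvd (by omega) h1
  rw [Finset.mem_range] at hi
  omega

end

/-- **the `p`-part of `∏_{i < m} [i+1] (1 + y^i z)`** -/
theorem fac_prod {p y z m v e w : ℕ} [hp : Fact p.Prime] (hp2 : p ≠ 2) (hy : 1 < y) (hm : v + e * w = m)
    (hv : v < e) (he0 : 0 < e) (he : e = orderOf (y : ZMod p)) (hlin : ∀ i, ¬ p ∣ 1 + y ^ i * z) :
    (∏ i ∈ Finset.range m, gs y (i + 1) * (1 + y ^ i * z)).factorization p =
      ((∏ i ∈ Finset.range e, gs y (i + 1)) ^ w * w.factorial).factorization p := by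
  have h1 : ∀ n : ℕ, (∏ i ∈ Finset.range n, gs y (i + 1)).factorization p =
      ∑ i ∈ Finset.range n, (gs y (i + 1)).factorization p := by
    intro n
    rw [Nat.factorization_prod fun i _ => gs_ne_zero (Nat.succ_ne_zero i), Finsupp.finsetSum_apply]
  have h2 : (∏ i ∈ Finset.range m, (1 + y ^ i * z)).factorization p = 0 := by
    rw [Nat.factorization_prod fun i _ => by positivity, Finsupp.finsetSum_apply]
    exact Finset.sum_eq_zero fun i _ => Nat.factorization_eq_zero_of_not_dvd (hlin i)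
  have hne : ∀ n : ℕ, ∏ i ∈ Finset.range n, gs y (i + 1) ≠ 0 := fun n =>
    Finset.prod_ne_zero_iff.2 fun i _ => gs_ne_zero (Nat.succ_ne_zero i)
  have h3 := sum_period he0 he hp2 hy 0
  simp only [mul_zero, zero_add, Nat.factorization_one, Finsupp.coe_zero, Pi.zero_apply, add_zero] at h3
  rw [Finset.prod_mul_distrib, Nat.factorization_mul (hne m) (Finset.prod_ne_zero_iff.2 fun i _ => by positivity),
    Finsupp.add_apply, h2, add_zero, h1, ← hm, sum_all he0 he hp2 hy hv,
    Nat.factorization_mul (pow_ne_zero _ (hne e)) (Nat.factorial_ne_zero w), Finsupp.add_apply,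
    Nat.factorization_pow, Finsupp.smul_apply, smul_eq_mul, h1, h3]

/-- **the `p`-part of `∏_{i < m} [i+1] ∏_{i < m-1} (1 + y^(i+1))`** (`TD y m` of helper965) -/
theorem fac_prod_D {p y m v e w : ℕ} [hp : Fact p.Prime] (hp2 : p ≠ 2) (hy : 1 < y) (hm : v + e * w = m)
    (hv : v < e) (he0 : 0 < e) (he : e = orderOf (y : ZMod p)) (hlin : ∀ i, ¬ p ∣ 1 + y ^ i) :
    ((∏ i ∈ Finset.range m, gs y (i + 1)) * ∏ i ∈ Finset.range (m - 1), (1 + y ^ (i + 1))).factorization p =
      ((∏ i ∈ Finset.range e, gs y (i + 1)) ^ w * w.factorial).factorization p := by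
  have h0 := fac_prod (z := 1) hp2 hy hm hv he0 he (by simpa using hlin)
  have hne : ∀ n : ℕ, ∏ i ∈ Finset.range n, gs y (i + 1) ≠ 0 := fun n =>
    Finset.prod_ne_zero_iff.2 fun i _ => gs_ne_zero (Nat.succ_ne_zero i)
  have h2 : ∀ n (f : ℕ → ℕ), (∏ i ∈ Finset.range n, (1 + y ^ (f i))).factorization p = 0 := by
    intro n f
    rw [Nat.factorization_prod fun i _ => by positivity, Finsupp.finsetSum_apply]
    exact Finset.sum_eq_zero fun i _ => Nat.factorization_eq_zero_of_not_dvd (hlin _)
  rw [← h0, Nat.factorization_mul (hne m) (Finset.prod_ne_zero_iff.2 fun i _ => by positivity), Finsupp.add_apply,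
    h2, add_zero, Finset.prod_mul_distrib, Nat.factorization_mul (hne m)
    (Finset.prod_ne_zero_iff.2 fun i _ => by positivity), Finsupp.add_apply]
  simp only [mul_one]
  rw [h2, add_zero]

end Cfsg.Agent.H886.XZ
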